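import Mathlib

/-!
# Finite modules over a domain are free up to torsion
-/

set_option autoImplicit false

universe u

namespace Groth.Agent.RankDomH1

variable (R : Type u) [CommRing R] [IsDomain R] (M : Type u) [AddCommGroup M] [Module R M] [Module.Finite R M]

theorem exists_structure :
    ∃ (c : R) (g : (Fin (Module.finrank R M) → R) →ₗ[R] M) (h : M →ₗ[R] (Fin (Module.finrank R M) → R)),
      c ≠ 0 ∧ Function.Injective g ∧ g ∘ₗ h = c • LinearMap.id ∧ h ∘ₗ g = c • LinearMap.id := by
  classical
  obtain ⟨v, hv⟩ := exists_linearIndependent_of_le_finrank (R := R) (M := M) le_rfl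
  let g := Fintype.linearCombination R v
  have hg : Function.Injective g := hv.fintypeLinearCombination_injective
  have hrank : Module.rank R (M ⧸ LinearMap.range g) = 0 := by
    have h1 : Module.rank R (LinearMap.range g) = Module.finrank R M := by
      rw [← (LinearEquiv.ofInjective g hg).rank_eq]
      simp
    have h2 := rank_quotient_add_rank_of_isDomain (LinearMap.range g)
    rw [h1] at h2
    rw [← Module.finrank_eq_rank R M] at h2
    exact (Cardinal.eq_of_add_eq_add_right (a := Module.rank R (M ⧸ LinearMap.range g)) (c := 0)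
      (b := (Module.finrank R M : Cardinal)) (by rw [zero_add]; exact h2) (Cardinal.natCast_lt_aleph0))
  have htor : ∀ x : M, ∃ a : R, a ≠ 0 ∧ a • x ∈ LinearMap.range g := fun x => by
    obtain ⟨a, ha, hax⟩ := rank_eq_zero_iff.1 hrank (Submodule.Quotient.mk x)
    exact ⟨a, ha, (Submodule.Quotient.mk_eq_zero _).1 (by rw [Submodule.Quotient.mk_smul]; exact hax)⟩
  choose a ha hax using htor
  obtain ⟨t, ht⟩ := (Module.finite_def.1 ‹Module.Finite R M› : (⊤ : Submodule R M).FG)
  let c := ∏ x ∈ t, a x
  have hc : c ≠ 0 := Finset.prod_ne_zero_iff.2 fun x _ => ha x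
  have hcM : ∀ x, c • x ∈ LinearMap.range g := by
    have : Submodule.span R (t : Set M) ≤ (LinearMap.range g).comap (c • LinearMap.id : M →ₗ[R] M) := by
      rw [Submodule.span_le]
      intro x hx
      show c • x ∈ LinearMap.range g
      rw [show c = (∏ y ∈ t.erase x, a y) * a x from (Finset.prod_erase_mul t a hx).symm, mul_smul]
      exact Submodule.smul_mem _ _ (hax x)
    rw [ht] at this
    exact fun x => this Submodule.mem_top
  let h : M →ₗ[R] (Fin (Module.finrank R M) → R) :=
    (LinearEquiv.ofInjective g hg).symm.toLinearMap ∘ₗ (c • LinearMap.id : M →ₗ[R] M).codRestrict _ hcM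
  have hgh : ∀ x, g (h x) = c • x := fun x =>
    congrArg Subtype.val ((LinearEquiv.ofInjective g hg).apply_symm_apply _)
  exact ⟨c, g, h, hc, hg, LinearMap.ext hgh, LinearMap.ext fun y => hg ((hgh (g y)).trans (map_smul g c y).symm)⟩

end Groth.Agent.RankDomH1
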